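import Groth.Agent.Lib.FormalCd7.Graded
import Groth.Agent.Lib.FormalFn.Sections
import Groth.Agent.Lib.FormalFun.Stalk
import Groth.Agent.Lib.FittSheaf.Basic
import Groth.Agent.Lib.FormalSys.Quot

/-!
# Uniform torsion bound in a coherent formal module
-/

set_option autoImplicit false
set_option linter.style.haveILetI false
universe u

open CategoryTheory CategoryTheory.Limits AlgebraicGeometry Opposite TopologicalSpace

namespace GrothLib.FormalCd7

open GrothLib.FormalSys GrothLib.FormalFun GrothLib.QCoh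

variable {A : Type u} [CommRing A] {X : Scheme.{u}} [X.Over (Spec (CommRingCat.of A))]

/-- The transition map of a system. -/
abbrev trans (G : ℕᵒᵖ ⥤ X.Modules) {q n : ℕ} (h : q ≤ n) : G.obj (op n) ⟶ G.obj (op q) :=
  G.map (homOfLE h).op

theorem trans_comp (G : ℕᵒᵖ ⥤ X.Modules) {p q n : ℕ} (h : p ≤ q) (h' : q ≤ n) :
    trans G h' ≫ trans G h = trans G (h.trans h') := by
  rw [trans, trans, ← Functor.map_comp]
  rfl

/-- Sections of a transition map on an open. -/
noncomputable def secTrans (G : ℕᵒᵖ ⥤ X.Modules) (U : X.Opens) {q n : ℕ} (h : q ≤ n) :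
    Γ(G.obj (op n), U) →ₗ[Γ(X, U)] Γ(G.obj (op q), U) :=
  ((trans G h).val.app (op U)).hom

theorem secTrans_eq_zero_iff [IsNoetherian X] {I : Ideal A} {G : ℕᵒᵖ ⥤ X.Modules}
    (hG : Formal.IsCohFormal I G) {U : X.Opens} (hU : IsAffineOpen U) {q n : ℕ} (h : q ≤ n)
    (z : Γ(G.obj (op n), U)) :
    secTrans G U h z = 0 ↔
      z ∈ ((I ^ (q + 1)).map (toSec A U)) • (⊤ : Submodule Γ(X, U) Γ(G.obj (op n), U)) := by
  haveI := (hG.1 n).1
  have hker := fun y : X => ker_stalkLin_of_isQuot (isQuot_map hG h) y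
  constructor
  · intro hz
    refine mem_of_forall_germ_mem hU _ fun y hy => ?_
    rw [← hker y, LinearMap.mem_ker]
    refine (stalkLin_germ (trans G h) hy z).trans ?_
    exact (congrArg _ hz).trans (map_zero _)
  · intro hz
    refine section_ext_germ (G.obj (op q)) fun y hy => ?_
    rw [map_zero]
    refine (stalkLin_germ (trans G h) hy z).symm.trans ?_
    exact LinearMap.mem_ker.1 (show _ ∈ LinearMap.ker (stalkLin (G.map (homOfLE h).op) y) from
      (hker y).symm ▸ germ_mem_of_mem hy _ hz)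

theorem exists_bound_affine [IsNoetherian X] {I : Ideal A} {G : ℕᵒᵖ ⥤ X.Modules}
    (hG : Formal.IsCohFormal I G) {U : X.Opens} (hU : IsAffineOpen U) :
    ∃ d : ℕ, ∀ (c n m : ℕ) (hm : m ≤ n) (v : Γ(G.obj (op n), U)), d ≤ c → m + c ≤ n →
      v ∈ ((I ^ c).map (toSec A U)) • (⊤ : Submodule Γ(X, U) Γ(G.obj (op n), U)) →
      (∀ b ∈ (I ^ c).map (toSec A U), b • v = 0) → secTrans G U hm v = 0 := by
  classical
  haveI : IsNoetherianRing Γ(X, U) := IsLocallyNoetherian.component_noetherian ⟨U, hU⟩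
  obtain ⟨r, a, ha⟩ := Submodule.fg_iff_exists_fin_generating_family.1 (IsNoetherian.noetherian (I.map (toSec A U)))
  have hJ : Ideal.span (Set.range a) = I.map (toSec A U) := ha
  haveI := (hG.1 0).1
  haveI : Module.Finite Γ(X, U) Γ(G.obj (op 0), U) :=
    QCoh.moduleFinite_of_isFiniteType (G.obj (op 0)) (hG.1 0).2 hU
  obtain ⟨d, hd⟩ := exists_torsion_bound a (fun n => Γ(G.obj (op n), U))
    (fun {q n} h => secTrans G U h)
    (fun n x => congrArg (fun φ : G.obj (op n) ⟶ G.obj (op n) => (φ.val.app (op U)).hom x) (G.map_id _))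
    (fun {p q n} h h' x => congrArg (fun φ : G.obj (op n) ⟶ G.obj (op p) => (φ.val.app (op U)).hom x)
      (trans_comp G h h'))
    (fun {q n} h => (FormalFn.app_isQuot (hG.1 n) (isQuot_map hG h) hU).1)
    (fun {q n} h => Submodule.ext fun z => by
      rw [LinearMap.mem_ker, secTrans_eq_zero_iff hG hU h, hJ, Ideal.map_pow])
  refine ⟨d, fun c n m hm v hc hmc hv hv0 => hd c n m hm v hc hmc ?_ ?_⟩
  · rwa [hJ, ← Ideal.map_pow]
  · rwa [hJ, ← Ideal.map_pow]

theorem isUnit_germ {U : X.Opens} {y : X} {hy : y ∈ U} {c : Γ(X, U)} (hc : c ∉ WeakAss.primeAt y hy) :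
    IsUnit (X.presheaf.germ U y hy c) :=
  (Scheme.mem_basicOpen _ c y hy).mp (WeakAss.notMem_primeAt_iff.mp hc)

/-- A uniform bound: in a coherent formal module, a stalk element lying in `I^c` and killed by `I^c`
maps to zero `c` steps down. -/
theorem exists_stalk_bound [IsNoetherian X] {I : Ideal A} {G : ℕᵒᵖ ⥤ X.Modules}
    (hG : Formal.IsCohFormal I G) :
    ∃ d : ℕ, ∀ (c n m : ℕ) (hm : m ≤ n), d ≤ c → m + c ≤ n → ∀ (y : X) (v : (G.obj (op n)).presheaf.stalk y),
      v ∈ ((I ^ c).map (toStalk A y)) • (⊤ : Submodule (X.presheaf.stalk y) ((G.obj (op n)).presheaf.stalk y)) →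
      (∀ a ∈ I ^ c, toStalk A y a • v = 0) → stalkLin (trans G hm) y v = 0 := by
  classical
  obtain ⟨t, ht⟩ := isCompact_univ.elim_finite_subcover (fun W : X.affineOpens => (W.1 : Set X))
    (fun W => W.1.2) fun x _ => by
      obtain ⟨_, ⟨Z, hZ, rfl⟩, hx, -⟩ :=
        X.isBasis_affineOpens.exists_subset_of_mem_open (Set.mem_univ x) isOpen_univ
      exact Set.mem_iUnion.2 ⟨⟨Z, hZ⟩, hx⟩
  choose d hd using fun W : X.affineOpens => exists_bound_affine hG W.2
  refine ⟨t.sup d, fun c n m hm hc hmc y v hv hv0 => ?_⟩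
  obtain ⟨W, hWt, hy⟩ := Set.mem_iUnion₂.1 (ht (Set.mem_univ y))
  have hy : y ∈ W.1 := hy
  haveI := (hG.1 n).1
  obtain ⟨c₁, hc₁, z, hz, e⟩ := exists_mem_of_mem_stalk W.2 hy (I ^ c) hv
  haveI : IsNoetherianRing Γ(X, W.1) := IsLocallyNoetherian.component_noetherian W
  obtain ⟨k, b, hb⟩ := Submodule.fg_iff_exists_fin_generating_family.1
    (IsNoetherian.noetherian ((I ^ c).map (toSec A W.1)))
  have hgerm : ∀ x ∈ (I ^ c).map (toSec A W.1), X.presheaf.germ W.1 y hy x • v = 0 := fun x hx => by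
    induction hx using Submodule.span_induction with
    | mem x hx =>
      obtain ⟨a, ha, rfl⟩ := hx
      rw [germ_toSec]
      exact hv0 a ha
    | zero => rw [map_zero, zero_smul]
    | add x x' _ _ hx hx' => rw [map_add, add_smul, hx, hx', add_zero]
    | smul r x _ hx => rw [smul_eq_mul, map_mul, mul_smul, hx, smul_zero]
  have hb0 : ∀ l, ∃ d₁ ∉ WeakAss.primeAt y hy, d₁ • (b l • z) = 0 := fun l => by
    refine (WeakAss.germ_eq_zero_iff W.2 hy _).1 ?_
    rw [WeakAss.germ_smul, ← e, smul_comm, hgerm _ (hb ▸ Submodule.subset_span ⟨l, rfl⟩), smul_zero]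
  choose d₁ hd₁ hd₁z using hb0
  let dd := ∏ l, d₁ l
  have hdd : IsUnit (X.presheaf.germ W.1 y hy dd) := by
    rw [map_prod]
    exact IsUnit.prod_univ_iff.2 fun l => isUnit_germ (hd₁ l)
  have hzero : secTrans G W.1 hm (dd • z) = 0 := by
    refine hd W c n m hm (dd • z) ((Finset.le_sup hWt).trans hc) hmc (Submodule.smul_mem _ _ hz) fun x hx => ?_
    rw [← hb] at hx
    induction hx using Submodule.span_induction with
    | mem x hx =>
      obtain ⟨l, rfl⟩ := hx
      rw [show dd = (∏ l' ∈ Finset.univ.erase l, d₁ l') * d₁ l from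
        (Finset.prod_erase_mul _ _ (Finset.mem_univ l)).symm, smul_smul, mul_comm, mul_assoc, mul_comm (d₁ l),
        mul_smul, mul_comm, mul_smul, hd₁z, smul_zero]
    | zero => exact zero_smul _ _
    | add x y _ _ hx hy => rw [add_smul, hx, hy, add_zero]
    | smul r x _ hx => rw [smul_assoc, hx, smul_zero]
  have h1 : stalkLin (trans G hm) y ((G.obj (op n)).presheaf.germ W.1 y hy (dd • z)) = 0 :=
    (stalkLin_germ (trans G hm) hy _).trans ((congrArg _ hzero).trans (map_zero _))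
  rw [WeakAss.germ_smul, ← e, smul_smul, map_smul] at h1
  exact ((hdd.mul (isUnit_germ hc₁)).smul_eq_zero).1 h1

end GrothLib.FormalCd7
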