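import Groth.Agent.Lib.LC.DTExt

/-!
# Inclusions of powers of an ideal of cohomological dimension one factor through free modules
-/

set_option autoImplicit false
universe u

open CategoryTheory CategoryTheory.Limits CategoryTheory.Abelian

namespace GrothLib.FormalCd7

open GrothLib.LC

variable {R : Type u} [CommRing R]

theorem exists_factor [IsNoetherianRing R] (I : Ideal R) (hI : LocCoh.CdLE R I 1) (m : ℕ) {k : ℕ} (b : Fin k → R)
    (hb : Ideal.span (Set.range b) = I ^ m) :
    ∃ (c : ℕ) (φ : ↥(I ^ c) →ₗ[R] (Fin k → R)), ∀ x : ↥(I ^ c), ∑ j, φ x j * b j = (x : R) := by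
  have hmem : ∀ v : Fin k → R, Fintype.linearCombination R b v ∈ I ^ m := fun v => by
    rw [← hb, Fintype.linearCombination_apply]
    exact Submodule.sum_mem _ fun i _ => Ideal.mul_mem_left _ _ (Ideal.subset_span ⟨i, rfl⟩)
  let g : (Fin k → R) →ₗ[R] ↥(I ^ m) := LinearMap.codRestrict (I ^ m) (Fintype.linearCombination R b) hmem
  have hg : Function.Surjective g := fun x => by
    have hx : (x : R) ∈ Submodule.span R (Set.range b) := (le_of_eq hb.symm) x.2
    obtain ⟨v, hv⟩ := (Submodule.mem_span_range_iff_exists_fun R).1 hx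
    exact ⟨v, Subtype.ext (by simp [g, Fintype.linearCombination_apply, ← hv])⟩
  let S : ShortComplex (ModuleCat.{u} R) := ShortComplex.mk
    (ModuleCat.ofHom (LinearMap.ker g).subtype) (ModuleCat.ofHom g)
    (ModuleCat.hom_ext (LinearMap.ext fun x => x.2))
  have hS : S.ShortExact :=
    { exact := (ShortComplex.moduleCat_exact_iff S).2 fun x hx => ⟨⟨x, hx⟩, rfl⟩
      mono_f := (ModuleCat.mono_iff_injective _).2 Subtype.val_injective
      epi_g := (ModuleCat.epi_iff_surjective _).2 hg }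
  let ξ : Ext (powI I m) S.X₁ 1 := hS.extClass
  have hsub : Subsingleton ((localCohomology I 2).obj S.X₁) := hI S.X₁ 2 (by omega)
  obtain ⟨c, hc, h0⟩ := (toH_eq_zero_iff I (powδ I 1 m S.X₁ ξ)).1 (hsub.elim _ 0)
  rw [powδ_natural] at h0
  have h1 : (Ext.mk₀ (inclI I hc)).comp ξ (zero_add 1) = 0 := powδ_injective (I := I) 0 c (by rw [h0, map_zero])
  obtain ⟨z, hz⟩ := Ext.covariant_sequence_exact₃ (powI I c) hS (Ext.mk₀ (inclI I hc)) (zero_add 1) h1
  obtain ⟨φ, rfl⟩ := (Ext.mk₀_bijective _ _).2 z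
  rw [Ext.mk₀_comp_mk₀] at hz
  have h2 : φ ≫ S.g = inclI I hc := (Ext.mk₀_bijective _ _).1 hz
  refine ⟨c, φ.hom, fun x => ?_⟩
  have h3 : Fintype.linearCombination R b (φ.hom x) = (x : R) :=
    congrArg (fun ψ : powI I c ⟶ powI I m => ((ψ.hom x : ↥(I ^ m)) : R)) h2
  rw [← h3, Fintype.linearCombination_apply]
  rfl

end GrothLib.FormalCd7
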