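import Groth.Agent.Lib.ProEtDC7.Sum

/-!
# Uniform torsion bound in an adic system of finite modules
-/

set_option autoImplicit false
set_option linter.unusedSimpArgs false
universe u v

namespace GrothLib.FormalCd7

open GrothLib.ProEtDC7
open scoped Classical

/-- An element of a deep multiple which is killed by that power dies in a fixed earlier stage. -/
theorem exists_torsion_bound {B : Type u} [CommRing B] [IsNoetherianRing B] {r : ℕ} (a : Fin r → B)
    (M : ℕ → Type v) [∀ n, AddCommGroup (M n)] [∀ n, Module B (M n)]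
    (g : ∀ {q n : ℕ}, q ≤ n → M n →ₗ[B] M q)
    (hrefl : ∀ n (x : M n), g le_rfl x = x)
    (hcomp : ∀ {p q n : ℕ} (hpq : p ≤ q) (hqn : q ≤ n) (x : M n), g hpq (g hqn x) = g (hpq.trans hqn) x)
    (hsurj : ∀ {q n : ℕ} (h : q ≤ n), Function.Surjective (g h))
    (hker : ∀ {q n : ℕ} (h : q ≤ n), LinearMap.ker (g h) =
      Ideal.span (Set.range a) ^ (q + 1) • (⊤ : Submodule B (M n)))
    [Module.Finite B (M 0)] :
    ∃ d : ℕ, ∀ (c n m : ℕ) (hm : m ≤ n) (v : M n), d ≤ c → m + c ≤ n →
      v ∈ Ideal.span (Set.range a) ^ c • (⊤ : Submodule B (M n)) →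
      (∀ b ∈ Ideal.span (Set.range a) ^ c, b • v = 0) → g hm v = 0 := by
  classical
  set J := Ideal.span (Set.range a) with hJ
  have hkill : ∀ n, J ^ (n + 1) • (⊤ : Submodule B (M n)) = ⊥ := fun n => by
    rw [← hker (le_refl n)]
    exact LinearMap.ker_eq_bot.2 fun x y h => by rwa [hrefl, hrefl] at h
  obtain ⟨N, e, he⟩ := Module.Finite.exists_fin (R := B) (M := M 0)
  obtain ⟨E, hE0, hEs⟩ : ∃ E : ∀ n, Fin N → M n, E 0 = e ∧ ∀ n i, g (Nat.le_succ n) (E (n + 1) i) = E n i :=
    ⟨fun n => Nat.rec (motive := fun n => Fin N → M n) e (fun n x i => (hsurj (Nat.le_succ n) (x i)).choose) n,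
      rfl, fun n i => (hsurj (Nat.le_succ n) _).choose_spec⟩
  have hE : ∀ {q n : ℕ} (h : q ≤ n) (i : Fin N), g h (E n i) = E q i := by
    intro q n h i
    induction n, h using Nat.le_induction with
    | base => exact hrefl _ _
    | succ n hn ih => rw [← hcomp hn (Nat.le_succ n), hEs, ih]
  have hgen : ∀ q, Submodule.span B (Set.range (E q)) = ⊤ := fun q => by
    have key : ∀ k, Submodule.span B (Set.range (E q)) ⊔ J ^ k • ⊤ = ⊤ := fun k => by
      induction k with
      | zero => simp
      | succ k ih =>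
        have h1 : Submodule.span B (Set.range (E q)) ⊔ J • (⊤ : Submodule B (M q)) = ⊤ := by
          refine eq_top_iff.2 fun x _ => ?_
          obtain ⟨c, hc⟩ := (Submodule.mem_span_range_iff_exists_fun B).1
            (show g (Nat.zero_le q) x ∈ Submodule.span B (Set.range e) by rw [he]; trivial)
          have : x - ∑ i, c i • E q i ∈ J • (⊤ : Submodule B (M q)) := by
            have : x - ∑ i, c i • E q i ∈ LinearMap.ker (g (Nat.zero_le q)) := by
              rw [LinearMap.mem_ker, map_sub, map_sum]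
              simp only [map_smul, hE, hE0, hc, sub_self]
            rwa [hker, zero_add, pow_one] at this
          rw [← add_sub_cancel (∑ i, c i • E q i) x]
          exact Submodule.add_mem_sup (Submodule.sum_mem _ fun i _ =>
            Submodule.smul_mem _ _ (Submodule.subset_span ⟨i, rfl⟩)) this
        have h2 : J ^ k • (⊤ : Submodule B (M q)) ≤
            Submodule.span B (Set.range (E q)) ⊔ J ^ (k + 1) • (⊤ : Submodule B (M q)) :=
          calc J ^ k • (⊤ : Submodule B (M q))
              = J ^ k • (Submodule.span B (Set.range (E q)) ⊔ J • (⊤ : Submodule B (M q))) := by rw [h1]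
            _ = J ^ k • Submodule.span B (Set.range (E q)) ⊔ J ^ (k + 1) • (⊤ : Submodule B (M q)) := by
              rw [Submodule.smul_sup, pow_succ, Submodule.mul_smul]
            _ ≤ _ := sup_le_sup_right Submodule.smul_le_right _
        exact eq_top_iff.2 (ih.ge.trans (sup_le le_sup_left h2))
    have h3 := key (q + 1)
    rwa [hkill, sup_bot_eq] at h3
  let Val : ∀ (q : ℕ) (m : ℕ), (Fin N → (Fin r → ℕ) → B) → M m := fun q m P =>
    ∑ i, ∑ ν ∈ layer r q, (mon a ν * P i ν) • E m i
  have hgVal : ∀ {p n : ℕ} (h : p ≤ n) (q : ℕ) (P : Fin N → (Fin r → ℕ) → B), g h (Val q n P) = Val q p P :=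
    fun h q P => by simp [Val, hE h]
  have hsurjVal : ∀ q, ∀ w ∈ J ^ q • (⊤ : Submodule B (M q)), ∃ P, Val q q P = w := fun q w hw => by
    rw [hJ, ← span_mon_eq_pow, ← hgen q, Submodule.span_smul_span] at hw
    induction hw using Submodule.span_induction with
    | mem x hx =>
      obtain ⟨_, ⟨ν, hν, rfl⟩, _, ⟨i, rfl⟩, rfl⟩ := hx
      refine ⟨fun i' ν' => if i' = i ∧ ν' = ν then 1 else 0, ?_⟩
      simp only [Val]
      rw [Finset.sum_eq_single i (fun j _ hj => Finset.sum_eq_zero fun ν' _ => by simp [hj]) (by simp),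
        Finset.sum_eq_single ν (fun ν' _ hν' => by simp [hν']) (fun h => (h hν).elim)]
      simp
    | zero => exact ⟨0, by simp [Val]⟩
    | add x y _ _ hx hy =>
      obtain ⟨P, rfl⟩ := hx
      obtain ⟨Q, rfl⟩ := hy
      exact ⟨P + Q, by simp [Val, mul_add, add_smul, Finset.sum_add_distrib]⟩
    | smul b x _ hx =>
      obtain ⟨P, rfl⟩ := hx
      exact ⟨b • P, by simp [Val, Finset.smul_sum, smul_smul, mul_left_comm]⟩
  let toF : (Fin r → ℕ) → (Fin r →₀ ℕ) := Finsupp.equivFunOnFinite.symm
  let toPoly : ℕ → (Fin N → (Fin r → ℕ) → B) → (Fin N → MvPolynomial (Fin r) B) := fun q P i =>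
    ∑ ν ∈ layer r q, MvPolynomial.monomial (toF ν) (P i ν)
  let T : Set (Fin N → MvPolynomial (Fin r) B) := {Q | ∃ (q j : ℕ) (P : Fin N → (Fin r → ℕ) → B),
    (∀ b ∈ J ^ j, b • Val q (q + j) P = 0) ∧ toPoly q P = Q}
  obtain ⟨F, hF, hspan⟩ := Submodule.fg_span_iff_fg_span_finset_subset T |>.1
    (IsNoetherian.noetherian (Submodule.span (MvPolynomial (Fin r) B) T))
  let G : Fin F.card → (Fin N → MvPolynomial (Fin r) B) := fun l => (F.equivFin.symm l).1
  choose qs js Ps hPs hG using fun l => hF (F.equivFin.symm l).2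
  refine ⟨(Finset.univ.sup fun l => qs l + js l) + 1, fun c n m hm v hc hmc hv hv0 => ?_⟩
  have main : ∀ q (hq : q ≤ n), q + c ≤ n → g hq v = 0 := by
    intro q
    induction q with
    | zero =>
      intro hq _
      have h2 : v ∈ LinearMap.ker (g hq) := by
        rw [hker]
        exact Submodule.smul_mono_left (Ideal.pow_le_pow_right (by omega)) hv
      exact h2
    | succ q ih =>
      intro hq hqc
      by_cases hlt : q + 1 < c
      · have h2 : v ∈ LinearMap.ker (g hq) := by
          rw [hker]
          exact Submodule.smul_mono_left (Ideal.pow_le_pow_right (by omega)) hv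
        exact h2
      have hw : g hq v ∈ J ^ (q + 1) • (⊤ : Submodule B (M (q + 1))) := by
        rw [← hker (Nat.le_succ q), LinearMap.mem_ker, hcomp, ih (by omega) (by omega)]
      obtain ⟨P, hP⟩ := hsurjVal _ _ hw
      rw [← hP]
      have hPT : ∀ b ∈ J ^ c, b • Val (q + 1) (q + 1 + c) P = 0 := fun b hb => by
        have h1 : g hqc v - Val (q + 1) (q + 1 + c) P ∈ LinearMap.ker (g (Nat.le_add_right (q + 1) c)) := by
          rw [LinearMap.mem_ker, map_sub, hcomp, hgVal, hP, sub_self]
        rw [hker] at h1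
        have h2 := Submodule.smul_mem_smul hb h1
        rw [← Submodule.mul_smul, ← pow_add, show c + (q + 1 + 1) = q + 1 + c + 1 by omega, hkill,
          Submodule.mem_bot, smul_sub, ← map_smul, hv0 b hb, map_zero, zero_sub, neg_eq_zero] at h2
        exact h2
      have hmem : toPoly (q + 1) P ∈ Submodule.span (MvPolynomial (Fin r) B) (Set.range G) := by
        have hr : Set.range G = (F : Set (Fin N → MvPolynomial (Fin r) B)) := Set.ext fun x =>
          ⟨by rintro ⟨j, rfl⟩; exact (F.equivFin.symm j).2, fun hx => ⟨F.equivFin ⟨x, hx⟩, by simp [G]⟩⟩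
        rw [hr, ← hspan]
        exact Submodule.subset_span ⟨q + 1, c, P, hPT, rfl⟩
      obtain ⟨h, hh⟩ := (Submodule.mem_span_range_iff_exists_fun _).1 hmem
      have hcoef : ∀ i, ∀ ν ∈ layer r (q + 1), P i ν = ∑ l, ∑ σ ∈ layer r (qs l),
          if σ ≤ ν then Ps l i σ * (h l).coeff (toF (ν - σ)) else 0 := fun i ν hν => by
        have h1 : (toPoly (q + 1) P i).coeff (toF ν) = P i ν := by
          rw [MvPolynomial.coeff_sum, Finset.sum_eq_single ν (fun σ _ hσ => ?_) (fun h => (h hν).elim)]
          · simp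
          · rw [MvPolynomial.coeff_monomial, if_neg fun h => hσ (Finsupp.equivFunOnFinite.symm.injective h)]
        rw [← h1, ← hh, Finset.sum_apply, MvPolynomial.coeff_sum]
        refine Finset.sum_congr rfl fun l _ => ?_
        rw [Pi.smul_apply, smul_eq_mul, mul_comm, show G l i = toPoly (qs l) (Ps l) i from (congrFun (hG l) i).symm,
          Finset.sum_mul, MvPolynomial.coeff_sum]
        refine Finset.sum_congr rfl fun σ _ => ?_
        rw [MvPolynomial.coeff_monomial_mul']
        have hle : toF σ ≤ toF ν ↔ σ ≤ ν :=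
          ⟨fun h i => by simpa [toF] using h i, fun h i => by simpa [toF] using h i⟩
        have hsub : toF ν - toF σ = toF (ν - σ) := by ext j; simp [toF]
        simp only [hle, hsub]
      have hVal : Val (q + 1) (q + 1) P = ∑ l, ∑ i, ∑ σ ∈ layer r (qs l), ∑ ν ∈ layer r (q + 1),
          if σ ≤ ν then (mon a ν * (Ps l i σ * (h l).coeff (toF (ν - σ)))) • E (q + 1) i else 0 := by
        calc Val (q + 1) (q + 1) P
            = ∑ i, ∑ ν ∈ layer r (q + 1), ∑ l, ∑ σ ∈ layer r (qs l),
              if σ ≤ ν then (mon a ν * (Ps l i σ * (h l).coeff (toF (ν - σ)))) • E (q + 1) i else 0 := by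
              refine Finset.sum_congr rfl fun i _ => Finset.sum_congr rfl fun ν hν => ?_
              simp only [hcoef i ν hν, Finset.mul_sum, Finset.sum_smul, mul_ite, mul_zero, ite_smul, zero_smul]
          _ = ∑ i, ∑ l, ∑ σ ∈ layer r (qs l), ∑ ν ∈ layer r (q + 1),
              if σ ≤ ν then (mon a ν * (Ps l i σ * (h l).coeff (toF (ν - σ)))) • E (q + 1) i else 0 := by
              refine Finset.sum_congr rfl fun i _ => ?_
              rw [Finset.sum_comm]
              exact Finset.sum_congr rfl fun l _ => Finset.sum_comm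
          _ = _ := Finset.sum_comm
      rw [hVal]
      refine Finset.sum_eq_zero fun l _ => ?_
      have hd : qs l + js l ≤ q + 1 := by
        have := Finset.le_sup (f := fun l => qs l + js l) (Finset.mem_univ l)
        omega
      have hX : ∀ b ∈ J ^ (q + 1 - qs l), b • Val (qs l) (q + 1) (Ps l) = 0 := fun b hb => by
        rw [show q + 1 - qs l = (q + 1 - (qs l + js l)) + js l by omega, pow_add] at hb
        refine Submodule.mul_induction_on hb (fun x hx y hy => ?_) (fun x y hx hy => by rw [add_smul, hx, hy, add_zero])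
        have h1 : y • Val (qs l) (q + 1) (Ps l) ∈ LinearMap.ker (g hd) := by
          rw [LinearMap.mem_ker, map_smul, hgVal, hPs l y hy]
        rw [hker] at h1
        have h2 := Submodule.smul_mem_smul hx h1
        rw [← Submodule.mul_smul, ← pow_add, show q + 1 - (qs l + js l) + (qs l + js l + 1) = q + 1 + 1 by omega,
          hkill, Submodule.mem_bot, smul_smul] at h2
        exact h2
      let S : Finset (Fin r → ℕ) := layer r (q + 1 - qs l)
      have hsum : ∀ μ ∈ S, (mon a μ * (h l).coeff (toF μ)) • Val (qs l) (q + 1) (Ps l) = 0 := fun μ hμ => by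
        rw [mul_comm, mul_smul, hX _ (by rw [hJ, ← span_mon_eq_pow]; exact Ideal.subset_span ⟨μ, hμ, rfl⟩), smul_zero]
      refine Eq.trans ?_ (Finset.sum_eq_zero hsum)
      simp only [Val, Finset.smul_sum]
      rw [Finset.sum_comm (s := S)]
      refine Finset.sum_congr rfl fun i _ => ?_
      rw [Finset.sum_comm (s := S)]
      refine Finset.sum_congr rfl fun σ hσ => ?_
      rw [← Finset.sum_filter]
      refine Finset.sum_bij' (fun ν _ => ν - σ) (fun μ _ => μ + σ) (fun ν hν => ?_) (fun μ hμ => ?_)
        (fun ν hν => ?_) (fun μ _ => ?_) fun ν hν => ?_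
      · obtain ⟨hν, hle⟩ := Finset.mem_filter.1 hν
        refine mem_layer.2 ?_
        have := wt_add (ν - σ) σ
        rw [sub_add_of_le hle, mem_layer.1 hν, mem_layer.1 hσ] at this
        omega
      · refine Finset.mem_filter.2 ⟨mem_layer.2 ?_, fun j => Nat.le_add_left _ _⟩
        rw [wt_add, mem_layer.1 hμ, mem_layer.1 hσ]
        omega
      · exact sub_add_of_le (Finset.mem_filter.1 hν).2
      · exact add_sub_right _ _
      · obtain ⟨-, hle⟩ := Finset.mem_filter.1 hν
        rw [smul_smul]
        congr 1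
        conv_lhs => rw [← sub_add_of_le hle, mon_add]
        rw [add_sub_right]
        ring
  exact main m hm hmc

end GrothLib.FormalCd7
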