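import Groth.Agent.Lib.FormalCd7.Torsion
import Groth.Agent.Lib.FormalCd7.Factor
import Groth.Agent.Lib.FormalFun.Basic
import Groth.Agent.Lib.CurveRR.Dual
import Groth.Agent.Lib.Euler.Basic
import Groth.Prelude.Def_Wider

/-!
# The topology on the limit of cohomology for an ideal of cohomological dimension one
-/

set_option autoImplicit false
set_option linter.style.haveILetI false
universe u

open CategoryTheory CategoryTheory.Limits AlgebraicGeometry Opposite TopologicalSpace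

namespace GrothLib.FormalCd7

open GrothLib.FormalSys GrothLib.FormalFun GrothLib.QCoh GrothLib.Cohom

variable {A : Type u} [CommRing A] {X : Scheme.{u}} [X.Over (Spec (CommRingCat.of A))]

noncomputable local instance instHasFiniteBiproductsModules (Y : Scheme.{u}) : HasFiniteBiproducts Y.Modules :=
  HasFiniteBiproducts.of_hasFiniteProducts

theorem smulMod_sum {M : X.Modules} {ι : Type*} (s : Finset ι) (f : ι → A) :
    Formal.smulMod A M (∑ i ∈ s, f i) = ∑ i ∈ s, Formal.smulMod A M (f i) :=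
  map_sum (AddMonoidHom.mk' (fun a => Formal.smulMod A M a) fun a b => smulMod_add a b) f s

theorem smulMod_comm_trans {G : ℕᵒᵖ ⥤ X.Modules} {q n : ℕ} (h : q ≤ n) (a b : A) :
    (Formal.smulMod A (G.obj (op n)) a ≫ trans G h) ≫ Formal.smulMod A (G.obj (op q)) b =
      Formal.smulMod A (G.obj (op n)) (b * a) ≫ trans G h := by
  rw [Category.assoc, ← smulMod_naturality, ← Category.assoc, ← smulMod_mul]

section Level

variable {I : Ideal A} {G : ℕᵒᵖ ⥤ X.Modules} {ι : Type} [Fintype ι] [DecidableEq ι]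

/-- The map `(v_p) ↦ ∑ g_p v_p`. -/
noncomputable abbrev famHom (G : ℕᵒᵖ ⥤ X.Modules) (g : ι → A) (N : ℕ) :
    (⨁ fun _ : ι => G.obj (op N)) ⟶ G.obj (op N) :=
  biproduct.desc fun p => Formal.smulMod A (G.obj (op N)) (g p)

theorem famHom_trans_eq_zero (hG : Formal.IsCohFormal I G) (g : ι → A) {L N : ℕ} (h : L ≤ N)
    (hg : ∀ p, g p ∈ I ^ (L + 1)) : famHom G g N ≫ trans G h = 0 :=
  biproduct.hom_ext' _ _ fun p => by
    rw [biproduct.ι_desc_assoc, comp_zero]
    exact (isQuot_map hG h).comp_eq_zero _ (hg p)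

theorem epi_famHom_lift (hG : Formal.IsCohFormal I G) (g : ι → A) {L N : ℕ} (h : L ≤ N)
    (hg : Ideal.span (Set.range g) = I ^ (L + 1)) :
    Epi (kernel.lift (trans G h) (famHom G g N)
      (famHom_trans_eq_zero hG g h fun p => hg ▸ Ideal.subset_span ⟨p, rfl⟩)) := by
  have hq := isQuot_map hG h
  haveI := hq.epi
  have hz : ∀ {P : X.Modules} (φ : G.obj (op N) ⟶ P), famHom G g N ≫ φ = 0 →
      ∀ a ∈ I ^ (L + 1), Formal.smulMod A (G.obj (op N)) a ≫ φ = 0 := by
    intro P φ hφ a ha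
    rw [← hg] at ha
    obtain ⟨c, rfl⟩ := (Submodule.mem_span_range_iff_exists_fun A).1 ha
    rw [smulMod_sum, Preadditive.sum_comp]
    refine Finset.sum_eq_zero fun p _ => ?_
    have hp := congrArg (biproduct.ι (fun _ : ι => G.obj (op N)) p ≫ ·) hφ
    simp only [biproduct.ι_desc_assoc, comp_zero] at hp
    rw [smul_eq_mul, mul_comm, smulMod_mul, Category.assoc, hp, comp_zero]
  let desc : ∀ {P : X.Modules} (φ : G.obj (op N) ⟶ P), famHom G g N ≫ φ = 0 → (G.obj (op L) ⟶ P) :=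
    fun φ hφ => (hq.exists_desc φ (hz φ hφ)).choose
  have hS : (ShortComplex.mk (famHom G g N) (trans G h)
      (famHom_trans_eq_zero hG g h fun p => hg ▸ Ideal.subset_span ⟨p, rfl⟩)).Exact :=
    ShortComplex.exact_of_g_is_cokernel _ (CokernelCofork.IsColimit.ofπ _ _ (fun φ hφ => desc φ hφ)
      (fun φ hφ => (hq.exists_desc φ (hz φ hφ)).choose_spec)
      (fun φ hφ ψ hψ => by rw [← cancel_epi (trans G h), hψ]; exact ((hq.exists_desc φ (hz φ hφ)).choose_spec).symm))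
  exact (ShortComplex.exact_iff_epi_kernel_lift _).1 hS

theorem exists_div_hom [IsNoetherian X] {d : ℕ}
    (hd : ∀ (c n m : ℕ) (hm : m ≤ n), d ≤ c → m + c ≤ n → ∀ (y : X) (v : (G.obj (op n)).presheaf.stalk y),
      v ∈ ((I ^ c).map (toStalk A y)) • (⊤ : Submodule (X.presheaf.stalk y) ((G.obj (op n)).presheaf.stalk y)) →
      (∀ a ∈ I ^ c, toStalk A y a • v = 0) → stalkLin (trans G hm) y v = 0)
    {c : ℕ} (hc : d ≤ c) (g e : ι → A) (he : ∀ p, e p ∈ I ^ c)
    (hkill : ∀ a ∈ I ^ c, ∃ q : A, ∀ p, a * e p = q * g p)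
    {L N n : ℕ} (h : L ≤ N) (hn : n ≤ N) (hnc : n + c ≤ N) (hw : famHom G g N ≫ trans G h = 0)
    [Epi (kernel.lift (trans G h) (famHom G g N) hw)] :
    ∃ ψ : kernel (trans G h) ⟶ G.obj (op n),
      kernel.lift (trans G h) (famHom G g N) hw ≫ ψ = famHom G e N ≫ trans G hn := by
  have key : kernel.ι (famHom G g N) ≫ famHom G e N ≫ trans G hn = 0 := hom_ext_stalkLin fun y v => by
    rw [stalkLin_zero, stalkLin_comp, stalkLin_comp]
    set u := stalkLin (kernel.ι (famHom G g N)) y v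
    let w : ι → (G.obj (op N)).presheaf.stalk y := fun p => stalkLin (biproduct.π (fun _ : ι => G.obj (op N)) p) y u
    have hsum : ∀ (f : ι → A), stalkLin (famHom G f N) y u = ∑ p, toStalk A y (f p) • w p := fun f => by
      rw [show famHom G f N = ∑ p, biproduct.π (fun _ : ι => G.obj (op N)) p ≫ Formal.smulMod A (G.obj (op N)) (f p)
        from biproduct.desc_eq, stalkLin_sum]
      exact Finset.sum_congr rfl fun p _ => by rw [stalkLin_comp, stalkLin_smulMod]
    refine hd c N n hn hc hnc y _ ?_ fun a ha => ?_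
    · rw [hsum]
      exact Submodule.sum_mem _ fun p _ => Submodule.smul_mem_smul (Ideal.mem_map_of_mem _ (he p)) trivial
    · obtain ⟨q, hq⟩ := hkill a ha
      rw [hsum, Finset.smul_sum]
      simp only [smul_smul, ← map_mul, hq]
      simp only [map_mul, ← smul_smul, ← Finset.smul_sum, ← hsum]
      rw [show stalkLin (famHom G g N) y u = 0 by
        rw [← stalkLin_comp, kernel.condition, stalkLin_zero], smul_zero]
  have hσ : kernel.ι (kernel.lift (trans G h) (famHom G g N) hw) ≫ famHom G g N = 0 := by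
    refine (congrArg (kernel.ι (kernel.lift (trans G h) (famHom G g N) hw) ≫ ·)
      (kernel.lift_ι (trans G h) (famHom G g N) hw).symm).trans ?_
    rw [kernel.condition_assoc, zero_comp]
  have hz : kernel.ι (kernel.lift (trans G h) (famHom G g N) hw) ≫ famHom G e N ≫ trans G hn = 0 := by
    rw [← kernel.lift_ι _ _ hσ, Category.assoc, key, comp_zero]
  refine ⟨(Abelian.epiIsCokernelOfKernel (f := kernel.lift (trans G h) (famHom G g N) hw) _ (kernelIsKernel _)).desc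
    (CokernelCofork.ofπ (famHom G e N ≫ trans G hn) hz), ?_⟩
  exact (Abelian.epiIsCokernelOfKernel (f := kernel.lift (trans G h) (famHom G g N) hw) _ (kernelIsKernel _)).fac _ WalkingParallelPair.one

end Level

theorem limit_topology_adic [IsNoetherianRing A] [IsNoetherian X] (I : Ideal A) (h₁ : LocCoh.CdLE A I 1)
    (G : ℕᵒᵖ ⥤ X.Modules) (hG : Formal.IsCohFormal I G) (p m : ℕ) :
    ∃ c : ℕ, ∀ x : ∀ n, Coh.HH X (G.obj (op n)) p,
      (∀ n, Formal2.HHsysMap G p n (x (n + 1)) = x n) → x c = 0 →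
        ∃ (k : ℕ) (a : Fin k → A) (y : Fin k → ∀ n, Coh.HH X (G.obj (op n)) p),
          (∀ i, a i ∈ I ^ m ∧ ∀ n, Formal2.HHsysMap G p n (y i (n + 1)) = y i n) ∧ x = ∑ i, a i • y i := by
  classical
  obtain ⟨d, hd⟩ := exists_stalk_bound hG
  obtain ⟨k, b, hb⟩ := Submodule.fg_iff_exists_fin_generating_family.1 (IsNoetherian.noetherian (I ^ m))
  obtain ⟨c', φ', hφ'⟩ := exists_factor I h₁ m b hb
  obtain ⟨c₀, hc₀, hc₀'⟩ : ∃ c₀, d ≤ c₀ + 1 ∧ c' ≤ c₀ + 1 := ⟨max d c', by omega, by omega⟩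
  let c := c₀ + 1
  let φ : ↥(I ^ c) →ₗ[A] (Fin k → A) := φ'.comp (Submodule.inclusion (Ideal.pow_le_pow_right hc₀'))
  have hφ : ∀ x : ↥(I ^ c), ∑ j, φ x j * b j = (x : A) := fun x => hφ' _
  obtain ⟨s, g₁, hg₁⟩ := Submodule.fg_iff_exists_fin_generating_family.1 (IsNoetherian.noetherian (I ^ c))
  have hg₁m : ∀ l, g₁ l ∈ I ^ c := fun l => hg₁ ▸ Submodule.subset_span ⟨l, rfl⟩
  let g : Fin s × Fin s → A := fun q => g₁ q.1 * g₁ q.2
  let e : Fin k → Fin s × Fin s → A := fun j q => φ ⟨g₁ q.1, hg₁m q.1⟩ j * g₁ q.2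
  let L := 2 * c₀ + 1
  have hg : Ideal.span (Set.range g) = I ^ (L + 1) := by
    rw [show L + 1 = c + c by show 2 * c₀ + 1 + 1 = c₀ + 1 + (c₀ + 1); omega, pow_add,
      ← show Ideal.span (Set.range g₁) = I ^ c from hg₁, Ideal.span_mul_span']
    congr 1
    ext z
    constructor
    · rintro ⟨q, rfl⟩
      exact ⟨_, ⟨q.1, rfl⟩, _, ⟨q.2, rfl⟩, rfl⟩
    · rintro ⟨_, ⟨i, rfl⟩, _, ⟨l, rfl⟩, rfl⟩
      exact ⟨(i, l), rfl⟩
  have hkill : ∀ j, ∀ a ∈ I ^ c, ∃ q : A, ∀ p, a * e j p = q * g p := fun j a ha => by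
    refine ⟨φ ⟨a, ha⟩ j, fun p => ?_⟩
    have h1 := congrArg (fun z => z j) (φ.map_smul a ⟨g₁ p.1, hg₁m p.1⟩)
    have h2 := congrArg (fun z => z j) (φ.map_smul (g₁ p.1) ⟨a, ha⟩)
    have h3 : a • (⟨g₁ p.1, hg₁m p.1⟩ : ↥(I ^ c)) = g₁ p.1 • (⟨a, ha⟩ : ↥(I ^ c)) :=
      Subtype.ext (mul_comm a (g₁ p.1))
    simp only [Pi.smul_apply, smul_eq_mul] at h1 h2
    show a * (φ ⟨g₁ p.1, hg₁m p.1⟩ j * g₁ p.2) = φ ⟨a, ha⟩ j * (g₁ p.1 * g₁ p.2)
    rw [← mul_assoc, ← h1, h3, h2]
    ring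
  let N : ℕ → ℕ := fun n => n + (L + 1)
  have hLN : ∀ n, L ≤ N n := fun n => by show L ≤ n + (L + 1); omega
  have hnN : ∀ n, n ≤ N n := fun n => Nat.le_add_right _ _
  have hncN : ∀ n, n + c ≤ N n := fun n => by show n + (c₀ + 1) ≤ n + (2 * c₀ + 1 + 1); omega
  have hw : ∀ n, famHom G g (N n) ≫ trans G (hLN n) = 0 := fun n =>
    famHom_trans_eq_zero hG g _ fun p => hg ▸ Ideal.subset_span ⟨p, rfl⟩
  let σ := fun n => kernel.lift (trans G (hLN n)) (famHom G g (N n)) (hw n)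
  haveI hσ : ∀ n, Epi (kernel.lift (trans G (hLN n)) (famHom G g (N n)) (hw n)) := fun n =>
    epi_famHom_lift hG g _ hg
  have hψ' := fun j n => exists_div_hom hd (show d ≤ c from hc₀) g (e j)
    (fun q => Ideal.mul_mem_left _ _ (hg₁m q.2)) (hkill j) (hLN n) (hnN n) (hncN n) (hw n)
  choose ψ hψ using hψ'
  let km : ∀ n, kernel (trans G (hLN (n + 1))) ⟶ kernel (trans G (hLN n)) := fun n =>
    kernel.lift _ (kernel.ι _ ≫ trans G (show N n ≤ N (n + 1) by show n + (L + 1) ≤ n + 1 + (L + 1); omega))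
      (by rw [Category.assoc, trans_comp, kernel.condition])
  have hψn : ∀ j n, ψ j (n + 1) ≫ trans G (Nat.le_succ n) = km n ≫ ψ j n := fun j n => by
    let T := trans G (show N n ≤ N (n + 1) by show n + (L + 1) ≤ n + 1 + (L + 1); omega)
    have hkm : σ (n + 1) ≫ km n = biproduct.map (fun _ : Fin s × Fin s => T) ≫ σ n := by
      rw [← cancel_mono (kernel.ι _), Category.assoc, Category.assoc]
      simp only [σ, km, kernel.lift_ι, kernel.lift_ι_assoc]
      refine biproduct.hom_ext' _ _ fun q => ?_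
      rw [biproduct.ι_desc_assoc, biproduct.ι_map_assoc, biproduct.ι_desc, smulMod_naturality]
    rw [← cancel_epi (σ (n + 1)), reassoc_of% hkm]
    show σ (n + 1) ≫ _ ≫ _ = biproduct.map _ ≫ σ n ≫ _
    rw [reassoc_of% (hψ j (n + 1)), hψ j n]
    refine biproduct.hom_ext' _ _ fun q => ?_
    rw [biproduct.ι_desc_assoc, biproduct.ι_map_assoc, biproduct.ι_desc_assoc, trans_comp,
      ← Category.assoc T, ← smulMod_naturality, Category.assoc, trans_comp]
  have hid : ∀ n, ∑ j, ψ j n ≫ Formal.smulMod A (G.obj (op n)) (b j) = kernel.ι _ ≫ trans G (hnN n) := fun n => by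
    rw [← cancel_epi (σ n)]
    simp only [Preadditive.comp_sum, σ, kernel.lift_ι_assoc, reassoc_of% (hψ _ n)]
    refine biproduct.hom_ext' _ _ fun q => ?_
    simp only [Preadditive.comp_sum, biproduct.ι_desc_assoc]
    simp only [← Category.assoc, smulMod_comm_trans]
    rw [← Preadditive.sum_comp, ← smulMod_sum]
    congr 2
    show ∑ j, b j * (φ ⟨g₁ q.1, hg₁m q.1⟩ j * g₁ q.2) = g₁ q.1 * g₁ q.2
    conv_rhs => arg 1; rw [← show ∑ j, φ ⟨g₁ q.1, hg₁m q.1⟩ j * b j = g₁ q.1 from hφ _]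
    rw [Finset.sum_mul]
    exact Finset.sum_congr rfl fun j _ => by ring
  refine ⟨L, fun x hx hxc => ?_⟩
  have hxt : ∀ {q n : ℕ} (h : q ≤ n), hhMap A (trans G h) p (x n) = x q := by
    intro q n h
    induction n, h using Nat.le_induction with
    | base => rw [show trans G (le_refl q) = 𝟙 _ from G.map_id _, hhMap_id]
    | succ n hn ih =>
      rw [← trans_comp G hn (Nat.le_succ n), ← FormalFun.hhMap_comp,
        show hhMap A (trans G (Nat.le_succ n)) p (x (n + 1)) = x n from hx n, ih]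
  let S : ℕ → ShortComplex X.Modules := fun n => ShortComplex.mk (kernel.ι (trans G (hLN n))) (trans G (hLN n))
    (kernel.condition _)
  have hS : ∀ n, (S n).ShortExact := fun n =>
    haveI := (isQuot_map hG (hLN n)).epi
    { exact := ShortComplex.exact_of_f_is_kernel _ (kernelIsKernel _) }
  let τ : ∀ n, S (n + 1) ⟶ S n := fun n => ShortComplex.homMk (km n)
    (trans G (show N n ≤ N (n + 1) by show n + (L + 1) ≤ n + 1 + (L + 1); omega)) (𝟙 _)
    (kernel.lift_ι _ _ _) (by show trans G _ ≫ trans G _ = trans G _ ≫ 𝟙 _; rw [trans_comp, Category.comp_id])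
  have hlift : ∀ n, ∃ y, hhMap A (S n).f p y = x (N n) := fun n =>
    ((exact₂ (hS n) p) (x (N n))).1 (by rw [← hxc]; exact hxt (hLN n))
  have hfix : ∀ n (y : Coh.HH X (S n).X₁ p), hhMap A (S n).f p y = x (N n) →
      ∃ y', hhMap A (S (n + 1)).f p y' = x (N (n + 1)) ∧ hhMap A (km n) p y' = y := by
    intro n y hy
    obtain ⟨y₁, hy₁⟩ := hlift (n + 1)
    have hd0 : hhMap A (S n).f p (hhMap A (km n) p y₁ - y) = 0 := by
      rw [map_sub, hy, FormalFun.hhMap_comp, show km n ≫ (S n).f = (S (n + 1)).f ≫ (τ n).τ₂ from (τ n).comm₁₂,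
        ← FormalFun.hhMap_comp, hy₁]
      exact sub_eq_zero.2 (hxt _)
    cases p with
    | zero => exact ⟨y₁, hy₁, sub_eq_zero.1 (Euler.hhMap_zero_injective (hS n) (hd0.trans (map_zero _).symm))⟩
    | succ q =>
      obtain ⟨u, hu⟩ := (exact₁ (A := A) (hS n) q _).1 hd0
      refine ⟨y₁ - hhDelta A (hS (n + 1)) q u, ?_, ?_⟩
      · rw [map_sub, hy₁, ((exact₁ (A := A) (hS (n + 1)) q) _).2 ⟨u, rfl⟩, sub_zero]
      · have hn := hhDelta_naturality (A := A) (hS (n + 1)) (hS n) (τ n) q u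
        rw [show (τ n).τ₃ = 𝟙 (G.obj (op L)) from rfl, hhMap_id] at hn
        rw [map_sub, show hhMap A (km n) (q + 1) (hhDelta A (hS (n + 1)) q u) = hhDelta A (hS n) q u from hn.symm,
          hu, sub_sub_cancel]
  let Y : ∀ n, {y : Coh.HH X (S n).X₁ p // hhMap A (S n).f p y = x (N n)} := fun n =>
    Nat.rec (motive := fun n => {y : Coh.HH X (S n).X₁ p // hhMap A (S n).f p y = x (N n)})
      ⟨_, (hlift 0).choose_spec⟩ (fun n y => ⟨(hfix n y.1 y.2).choose, (hfix n y.1 y.2).choose_spec.1⟩) n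
  have hY : ∀ n, hhMap A (km n) p (Y (n + 1)).1 = (Y n).1 := fun n => (hfix n (Y n).1 (Y n).2).choose_spec.2
  refine ⟨k, b, fun j n => hhMap A (ψ j n) p (Y n).1, fun j => ⟨hb ▸ Submodule.subset_span ⟨j, rfl⟩, fun n => ?_⟩, ?_⟩
  · show hhMap A (trans G (Nat.le_succ n)) p (hhMap A (ψ j (n + 1)) p (Y (n + 1)).1) = _
    rw [FormalFun.hhMap_comp, hψn, ← FormalFun.hhMap_comp, hY]
  · funext n
    rw [Finset.sum_apply]
    refine Eq.trans ?_ (Finset.sum_congr rfl fun j _ =>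
      ((FormalFun.hhMap_comp (ψ j n) (Formal.smulMod A (G.obj (op n)) (b j)) p (Y n).1).symm.trans
        (hhMap_smulMod (b j) p _)))
    rw [← CurveRR.hhMap_sum, hid, ← FormalFun.hhMap_comp, (Y n).2, hxt]

end GrothLib.FormalCd7
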